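import Mathlib
import Cfsg.Agent.Lib.NilpPerm.Bound

/-!
# Minimal covers by nilpotent subgroups: a replacement argument
-/

set_option autoImplicit false
set_option linter.style.haveILetI false

namespace CfsgLib.NilCover

variable {G : Type*} [Group G] [Finite G]

/-- A minimal cover by nilpotent subgroups does not exist when the elements with property `R` are
covered by few subgroups, while many elements need members consisting of `R`-elements. -/
theorem false_of_replacement (R : G → Prop) {κ : Type*} [Finite κ] (K : κ → Subgroup G)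
    (hK : ∀ k, K k ≠ ⊤) (hcovR : ∀ g, R g → ∃ k, g ∈ K k)
    {ι : Type*} [Finite ι] (e : ι → G) (hcard : Nat.card κ < Nat.card ι)
    (hR : ∀ A : Subgroup G, Group.IsNilpotent A → ∀ i, e i ∈ A → ∀ a ∈ A, R a)
    (hinj : ∀ A : Subgroup G, Group.IsNilpotent A → ∀ i j, e i ∈ A → e j ∈ A → i = j) :
    ¬ ∃ 𝓐 : Finset (Subgroup G), ((∀ A ∈ 𝓐, A ≠ ⊤) ∧ (∀ g : G, ∃ A ∈ 𝓐, g ∈ A)) ∧
      (∀ 𝓑 : Finset (Subgroup G), (∀ A ∈ 𝓑, A ≠ ⊤) ∧ (∀ g : G, ∃ A ∈ 𝓑, g ∈ A) → 𝓐.card ≤ 𝓑.card) ∧
      (∀ A ∈ 𝓐, Group.IsNilpotent A) := by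
  classical
  rintro ⟨𝓐, ⟨hprop, hcov⟩, hmin, hnil⟩
  haveI : Fintype κ := Fintype.ofFinite κ
  haveI : Fintype ι := Fintype.ofFinite ι
  choose mem hmem hmem' using hcov
  set T1 := 𝓐.filter fun A => ∀ a ∈ A, R a with hT1
  have h1 : Fintype.card ι ≤ T1.card := by
    have hinj' : Function.Injective fun i => mem (e i) := by
      intro i j hij
      exact hinj _ (hnil _ (hmem (e j))) i j ((show mem (e i) = mem (e j) from hij) ▸ hmem' (e i))
        (hmem' (e j))
    rw [← Finset.card_univ, ← Finset.card_image_of_injective Finset.univ hinj']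
    refine Finset.card_le_card fun A hA => ?_
    obtain ⟨i, -, rfl⟩ := Finset.mem_image.1 hA
    exact Finset.mem_filter.2 ⟨hmem _, hR _ (hnil _ (hmem _)) i (hmem' _)⟩
  have h2 := hmin ((𝓐 \ T1) ∪ Finset.univ.image K) ⟨?_, ?_⟩
  · have h3 : ((𝓐 \ T1) ∪ Finset.univ.image K).card ≤ (𝓐 \ T1).card + Fintype.card κ :=
      (Finset.card_union_le _ _).trans (Nat.add_le_add_left Finset.card_image_le _)
    have hsub : T1 ⊆ 𝓐 := Finset.filter_subset _ _
    rw [Finset.card_sdiff_of_subset hsub] at h3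
    have := Finset.card_le_card hsub
    rw [Nat.card_eq_fintype_card, Nat.card_eq_fintype_card] at hcard
    omega
  · intro A hA
    rcases Finset.mem_union.1 hA with hA | hA
    · exact hprop A (Finset.mem_sdiff.1 hA).1
    · obtain ⟨k, -, rfl⟩ := Finset.mem_image.1 hA
      exact hK k
  · intro g
    by_cases hA : mem g ∈ T1
    · obtain ⟨k, hk⟩ := hcovR g ((Finset.mem_filter.1 hA).2 g (hmem' g))
      exact ⟨K k, Finset.mem_union_right _ (Finset.mem_image_of_mem _ (Finset.mem_univ k)), hk⟩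
    · exact ⟨mem g, Finset.mem_union_left _ (Finset.mem_sdiff.2 ⟨hmem g, hA⟩), hmem' g⟩

/-- A nilpotent subgroup containing an element whose centralizer is a `p`-group is a `p`-group. -/
theorem pgroup_of_centralizer {p : ℕ} [hp : Fact p.Prime] {A : Subgroup G} [Group.IsNilpotent A]
    {u : G} (hu : u ∈ A) (huord : ∃ k, orderOf u = p ^ k)
    (hC : ∀ y : G, Commute y u → ∃ k, y ^ p ^ k = 1) : IsPGroup p A := by
  rintro ⟨y, hy⟩
  obtain ⟨j, hj⟩ := huord
  set e := (orderOf y).factorization p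
  have hcop : (orderOf (y ^ p ^ e)).Coprime (orderOf u) := by
    rw [hj, orderOf_pow, Nat.gcd_eq_right (Nat.ordProj_dvd _ p)]
    exact ((Nat.coprime_ordCompl hp.out (orderOf_pos y).ne').symm).pow_right j
  have hc := CfsgLib.NilpPerm.commute_of_coprime_order (G := A) (a := ⟨y ^ p ^ e, pow_mem hy _⟩)
    (b := ⟨u, hu⟩) (by rw [← Subgroup.orderOf_coe, ← Subgroup.orderOf_coe]; exact hcop)
  obtain ⟨k, hk⟩ := hC (y ^ p ^ e) (congrArg Subtype.val hc.eq)
  exact ⟨e + k, Subtype.ext (show y ^ p ^ (e + k) = 1 by rw [pow_add, pow_mul]; exact hk)⟩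

end CfsgLib.NilCover
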