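import Mathlib
import Cfsg.Agent.Lib.NilCover.Basic

/-!
# Regular unipotent elements and split semisimple elements in `PGL_n`
-/

set_option autoImplicit false
set_option linter.style.haveILetI false

open Matrix
open scoped MatrixGroups LinearAlgebra.Projectivization

namespace CfsgLib.NilCover

variable {F : Type*} [Field F] {n : ℕ}

theorem fix_iff (g : GL (Fin n) F) (v : Fin n → F) (hv : v ≠ 0) :
    (ProjGenLinGroup.mk g : PGL(n, F)) • Projectivization.mk F v hv = Projectivization.mk F v hv ↔
      ∃ c : F, (g : Matrix (Fin n) (Fin n) F) *ᵥ v = c • v := by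
  rw [Projectivization.PGL.mk_smul_mk, Projectivization.mk_eq_mk_iff']
  exact ⟨fun ⟨c, hc⟩ => ⟨c, hc.symm⟩, fun ⟨c, hc⟩ => ⟨c, hc.symm⟩⟩

theorem mk_sl_smul (g : SpecialLinearGroup (Fin n) F) (p : ℙ F (Fin n → F)) :
    (ProjGenLinGroup.mk (SpecialLinearGroup.toGL g) : PGL(n, F)) • p = g • p := by
  induction p using Projectivization.ind with
  | _ v hv => rfl

/-- The nilpotent shift. -/
def shift (n : ℕ) (F : Type*) [Field F] : Matrix (Fin n) (Fin n) F :=
  of fun i j => if (i : ℕ) + 1 = (j : ℕ) then 1 else 0

theorem shift_mulVec_apply (x : Fin n → F) (i : Fin n) :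
    (shift n F *ᵥ x) i = if h : (i : ℕ) + 1 < n then x ⟨i + 1, h⟩ else 0 := by
  classical
  simp only [shift, mulVec, dotProduct, of_apply, ite_mul, one_mul, zero_mul]
  split_ifs with h
  · rw [Finset.sum_eq_single ⟨(i : ℕ) + 1, h⟩]
    · simp
    · intro j _ hj
      rw [if_neg fun e => hj (Fin.ext e.symm)]
    · simp
  · refine Finset.sum_eq_zero fun j _ => if_neg fun e => h ?_
    have := j.2
    omega

theorem shiftT_mulVec_apply (x : Fin n → F) (i : Fin n) :
    ((shift n F)ᵀ *ᵥ x) i = if h : 1 ≤ (i : ℕ) then x ⟨i - 1, by omega⟩ else 0 := by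
  classical
  simp only [shift, mulVec, dotProduct, transpose_apply, of_apply, ite_mul, one_mul, zero_mul]
  split_ifs with h
  · rw [Finset.sum_eq_single ⟨(i : ℕ) - 1, by omega⟩]
    · rw [if_pos (by simp only; omega)]
    · intro j _ hj
      rw [if_neg fun e => hj (Fin.ext (by simp only; omega))]
    · simp
  · refine Finset.sum_eq_zero fun j _ => if_neg fun e => h ?_
    omega

/-- The regular unipotent matrix. -/
def regMat (n : ℕ) (F : Type*) [Field F] : Matrix (Fin n) (Fin n) F := 1 + shift n F

theorem regMat_triangular : (regMat n F).BlockTriangular id := by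
  intro i j hij
  have h : (j : ℕ) < (i : ℕ) := hij
  simp only [regMat, shift, Matrix.add_apply, of_apply]
  rw [one_apply_ne (fun e => by rw [e] at h; omega), if_neg (by omega), add_zero]

theorem det_regMat : (regMat n F).det = 1 := by
  rw [det_of_isUpperTriangular regMat_triangular]
  exact Finset.prod_eq_one fun i _ => by simp [regMat, shift]

/-- The regular unipotent element of `SL_n`. -/
def regSL (n : ℕ) (F : Type*) [Field F] : SpecialLinearGroup (Fin n) F := ⟨regMat n F, det_regMat⟩

/-- An eigenvector of the regular unipotent matrix is a multiple of the first basis vector. -/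
theorem eigen_regMat {x : Fin n → F} {c : F} (h : regMat n F *ᵥ x = c • x) :
    ∀ i : Fin n, 0 < (i : ℕ) → x i = 0 := by
  have hi : ∀ i : Fin n, (c - 1) * x i = (shift n F *ᵥ x) i := fun i => by
    have := congrFun h i
    rw [regMat, add_mulVec, one_mulVec, Pi.add_apply, Pi.smul_apply, smul_eq_mul] at this
    linear_combination -this
  by_cases hc : c = 1
  · intro i hi0
    have := hi ⟨(i : ℕ) - 1, by omega⟩
    rw [shift_mulVec_apply, dif_pos (by simp only; omega), hc, sub_self, zero_mul] at this
    rw [this]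
    congr 1
    exact Fin.ext (by simp only; omega)
  · have : ∀ d, ∀ i : Fin n, n ≤ (i : ℕ) + 1 + d → x i = 0 := by
      intro d
      induction d with
      | zero =>
        intro i hd
        have := hi i
        rw [shift_mulVec_apply, dif_neg (by omega)] at this
        exact (mul_eq_zero.1 this).resolve_left (sub_ne_zero.2 hc)
      | succ d ih =>
        intro i hd
        have := hi i
        rw [shift_mulVec_apply] at this
        split_ifs at this with h1
        · rw [ih ⟨(i : ℕ) + 1, h1⟩ (by simp only; omega)] at this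
          exact (mul_eq_zero.1 this).resolve_left (sub_ne_zero.2 hc)
        · exact (mul_eq_zero.1 this).resolve_left (sub_ne_zero.2 hc)
    exact fun i _ => this n i (by omega)

/-- An eigenvector of the transposed regular unipotent matrix. -/
theorem eigen_regMatT {x : Fin n → F} {c : F} (h : (regMat n F)ᵀ *ᵥ x = c • x) :
    ∀ i : Fin n, (i : ℕ) + 1 < n → x i = 0 := by
  have hi : ∀ i : Fin n, (c - 1) * x i = ((shift n F)ᵀ *ᵥ x) i := fun i => by
    have := congrFun h i
    rw [regMat, transpose_add, transpose_one, add_mulVec, one_mulVec, Pi.add_apply, Pi.smul_apply,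
      smul_eq_mul] at this
    linear_combination -this
  by_cases hc : c = 1
  · intro i hi0
    have := hi ⟨(i : ℕ) + 1, hi0⟩
    rw [shiftT_mulVec_apply, dif_pos (by simp only; omega), hc, sub_self, zero_mul] at this
    rw [this]
    congr 1
  · have : ∀ d, ∀ i : Fin n, (i : ℕ) ≤ d → x i = 0 := by
      intro d
      induction d with
      | zero =>
        intro i hd
        have := hi i
        rw [shiftT_mulVec_apply, dif_neg (by omega)] at this
        exact (mul_eq_zero.1 this).resolve_left (sub_ne_zero.2 hc)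
      | succ d ih =>
        intro i hd
        have := hi i
        rw [shiftT_mulVec_apply] at this
        split_ifs at this with h1
        · rw [ih ⟨(i : ℕ) - 1, by omega⟩ (by show (i : ℕ) - 1 ≤ d; omega)] at this
          exact (mul_eq_zero.1 this).resolve_left (sub_ne_zero.2 hc)
        · exact (mul_eq_zero.1 this).resolve_left (sub_ne_zero.2 hc)
    exact fun i _ => this n i (by omega)

variable [NeZero n]

/-- The first point. -/
def firstPt (n : ℕ) (F : Type*) [Field F] [NeZero n] : ℙ F (Fin n → F) :=
  Projectivization.mk F (Pi.single 0 1) (by simp)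

theorem eq_firstPt {x : Fin n → F} (hx : x ≠ 0) (h : ∀ i : Fin n, 0 < (i : ℕ) → x i = 0) :
    Projectivization.mk F x hx = firstPt n F := by
  rw [firstPt, Projectivization.mk_eq_mk_iff']
  refine ⟨x 0, funext fun i => ?_⟩
  rcases eq_or_ne i 0 with rfl | hi
  · simp
  · rw [Pi.smul_apply, Pi.single_eq_of_ne hi, smul_zero, h i (Fin.pos_iff_ne_zero.2 hi)]

theorem regMat_single : regMat n F *ᵥ Pi.single 0 1 = (1 : F) • Pi.single 0 1 := by
  rw [one_smul, regMat, add_mulVec, one_mulVec, add_eq_left]
  funext i
  rw [shift_mulVec_apply, Pi.zero_apply]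
  split_ifs with h
  · exact Pi.single_eq_of_ne (fun e => by have := congrArg Fin.val e; simp at this) _
  · rfl

theorem regSL_fix_iff (p : ℙ F (Fin n → F)) : regSL n F • p = p ↔ p = firstPt n F := by
  induction p using Projectivization.ind with
  | _ v hv =>
    rw [← mk_sl_smul, fix_iff]
    constructor
    · rintro ⟨c, hc⟩
      exact eq_firstPt hv (eigen_regMat hc)
    · intro e
      obtain ⟨a, ha⟩ := (Projectivization.mk_eq_mk_iff' F _ _ _ (by simp)).1 e
      refine ⟨1, ?_⟩
      show regMat n F *ᵥ v = (1 : F) • v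
      rw [← ha, mulVec_smul, regMat_single, one_smul, one_smul]

omit [NeZero n] in
theorem shift_pow_apply (k : ℕ) (i j : Fin n) (h : (j : ℕ) < (i : ℕ) + k) :
    (shift n F ^ k) i j = 0 := by
  induction k generalizing i with
  | zero => rw [pow_zero, one_apply_ne]; exact fun e => by rw [e] at h; omega
  | succ k ih =>
    rw [pow_succ', mul_apply]
    refine Finset.sum_eq_zero fun l _ => ?_
    by_cases hl : (i : ℕ) + 1 = (l : ℕ)
    · rw [ih l (by omega), mul_zero]
    · simp [shift, hl]

theorem shift_pow_n : shift n F ^ n = 0 := by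
  ext i j
  exact shift_pow_apply n i j (by omega)

/-- Elements of `PGL_n` commuting with the regular unipotent are `p`-elements. -/
theorem commute_regSL {p : ℕ} [Fact p.Prime] [CharP F p] (y : PGL(n, F))
    (hy : Commute y (ProjGenLinGroup.mk (SpecialLinearGroup.toGL (regSL n F)))) :
    ∃ k, y ^ p ^ k = 1 := by
  cases y with
  | mk Y =>
    set J := shift n F with hJ
    set U := SpecialLinearGroup.toGL (regSL n F)
    obtain ⟨t, ht⟩ := ProjGenLinGroup.mk_eq_mk_iff.1 (show ProjGenLinGroup.mk (U * Y) =
      ProjGenLinGroup.mk (Y * U) by rw [map_mul, map_mul]; exact hy.eq.symm)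
    have hm : regMat n F * (Y : Matrix (Fin n) (Fin n) F) * scalar (Fin n) (t : F) =
        (Y : Matrix (Fin n) (Fin n) F) * regMat n F := congrArg Units.val ht
    set M := (Y : Matrix (Fin n) (Fin n) F)
    set e0 : Fin n → F := Pi.single 0 1
    have hMne : ∀ v, M *ᵥ v = 0 → v = 0 := fun v hv => by
      have := congrArg (fun w => ((Y⁻¹ : GL (Fin n) F) : Matrix (Fin n) (Fin n) F) *ᵥ w) hv
      simpa [mulVec_mulVec, M, ← Units.val_mul] using this
    have hsm : ∀ v, scalar (Fin n) (t : F) *ᵥ v = (t : F) • v := fun v => by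
      funext i; simp [scalar_apply, mulVec_diagonal]
    have he : (t : F) • (regMat n F *ᵥ (M *ᵥ e0)) = M *ᵥ e0 := by
      have := congrArg (fun X => X *ᵥ e0) hm
      simp only [← mulVec_mulVec] at this
      rw [hsm, regMat_single, one_smul, mulVec_smul, mulVec_smul] at this
      exact this
    have he' : regMat n F *ᵥ (M *ᵥ e0) = (t : F)⁻¹ • (M *ᵥ e0) := by
      conv_rhs => rw [← he, smul_smul, inv_mul_cancel₀ (Units.ne_zero t), one_smul]
    have hMe0 : M *ᵥ e0 = (M *ᵥ e0) 0 • e0 := by
      funext i
      rcases eq_or_ne i 0 with rfl | hi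
      · simp [e0]
      · rw [eigen_regMat he' i (Fin.pos_iff_ne_zero.2 hi)]
        simp [e0, Pi.single_eq_of_ne hi]
    set c := (M *ᵥ e0) 0
    have hc : c ≠ 0 := fun h0 => by
      rw [h0, zero_smul] at hMe0
      have := congrFun (hMne e0 hMe0) 0
      simp [e0] at this
    have ht1 : (t : F) = 1 := by
      rw [hMe0, mulVec_smul, regMat_single, one_smul, smul_smul] at he
      have := congrFun he 0
      simp only [Pi.smul_apply, smul_eq_mul, e0, Pi.single_eq_same, mul_one] at this
      exact mul_right_cancel₀ hc (this.trans (one_mul c).symm)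
    rw [ht1, map_one, mul_one] at hm
    set Z := M - scalar (Fin n) c
    have hZJ : Commute Z J := by
      have h1 : Commute M J := by
        show M * J = J * M
        rw [regMat, add_mul, mul_add, one_mul, mul_one] at hm
        exact (add_left_cancel hm).symm
      exact h1.sub_left (scalar_commute c (fun r => mul_comm _ r) J)
    have hZe0 : Z *ᵥ e0 = 0 := by
      rw [sub_mulVec, hMe0]
      funext i
      simp [scalar_apply, mulVec_diagonal]
    have hkerJ : ∀ x, J *ᵥ x = 0 → Z *ᵥ x = 0 := by
      intro x hx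
      have hx1 : regMat n F *ᵥ x = (1 : F) • x := by
        rw [regMat, add_mulVec, one_mulVec, hx, add_zero, one_smul]
      have hxe : x = x 0 • e0 := by
        funext i
        rcases eq_or_ne i 0 with rfl | hi
        · simp [e0]
        · rw [eigen_regMat hx1 i (Fin.pos_iff_ne_zero.2 hi)]
          simp [e0, Pi.single_eq_of_ne hi]
      rw [hxe, mulVec_smul, hZe0, smul_zero]
    have key : ∀ i, ∀ x, (J ^ i) *ᵥ x = 0 → (Z ^ i) *ᵥ x = 0 := by
      intro i
      induction i with
      | zero => intro x hx; exact hx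
      | succ i ih =>
        intro x hx
        rw [pow_succ, ← mulVec_mulVec] at hx
        have h1 := ih _ hx
        rw [mulVec_mulVec, (hZJ.pow_left i).eq, ← mulVec_mulVec] at h1
        have h2 := hkerJ _ h1
        rwa [mulVec_mulVec, ← pow_succ'] at h2
    have hZn : Z ^ n = 0 := by
      refine Matrix.ext_of_mulVec_single fun i => ?_
      rw [zero_mulVec]
      exact key n _ (by rw [hJ, shift_pow_n, zero_mulVec])
    have hp : p.Prime := Fact.out
    refine ⟨n, ?_⟩
    rw [← map_pow, ProjGenLinGroup.mk_eq_one, GeneralLinearGroup.center_eq_range_scalar]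
    refine ⟨Units.mk0 (c ^ p ^ n) (pow_ne_zero _ hc), Units.ext ?_⟩
    show scalar (Fin n) (c ^ p ^ n) = M ^ p ^ n
    have hM : M = scalar (Fin n) c + Z := (add_sub_cancel _ _).symm
    have hZpn : Z ^ p ^ n = 0 := pow_eq_zero_of_le (Nat.lt_pow_self hp.one_lt).le hZn
    rw [hM, add_pow_char_pow_of_commute p n (scalar_commute c (fun r => mul_comm _ r) Z), hZpn,
      add_zero, map_pow]

theorem prime_not_dvd_card_proj [Fintype F] {p : ℕ} [Fact p.Prime] [CharP F p] :
    ¬ p ∣ Nat.card (ℙ F (Fin n → F)) := by
  intro hd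
  have hp : p.Prime := Fact.out
  have h := Projectivization.card' F (Fin n → F)
  obtain ⟨k, -, hk⟩ := FiniteField.card F p
  have hV : p ∣ Nat.card (Fin n → F) := by
    rw [Nat.card_fun, Nat.card_eq_fintype_card (α := F), hk, ← pow_mul]
    refine dvd_pow_self p (Nat.mul_ne_zero k.pos.ne' ?_)
    simpa using NeZero.ne n
  rw [h] at hV
  have h1 := (Nat.dvd_add_right (hd.mul_right _)).1 hV
  exact hp.one_lt.ne' (Nat.dvd_one.1 h1)

variable {p : ℕ} [Fact p.Prime] [CharP F p]

/-- `p`-subgroups of `PGL_n` fix a point, and so does any action twisted by a homomorphism. -/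
theorem exists_fixed [Fintype F] {H : Type*} [Group H] [Finite H] {A : Subgroup H} (hA : IsPGroup p A)
    (τ : H →* PGL(n, F)) : ∃ x : ℙ F (Fin n → F), ∀ a ∈ A, τ a • x = x := by
  haveI : Finite (ℙ F (Fin n → F)) := inferInstance
  letI : MulAction A (ℙ F (Fin n → F)) := MulAction.compHom _ (τ.comp A.subtype)
  obtain ⟨x, hx⟩ := hA.nonempty_fixed_point_of_prime_not_dvd_card (ℙ F (Fin n → F)) prime_not_dvd_card_proj
  exact ⟨x, fun a ha => hx ⟨a, ha⟩⟩

/-- The inverse transpose. -/
def invTrans (n : ℕ) (F : Type*) [Field F] : GL (Fin n) F →* GL (Fin n) F where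
  toFun g := ⟨((g⁻¹ : GL (Fin n) F) : Matrix (Fin n) (Fin n) F)ᵀ, (g : Matrix (Fin n) (Fin n) F)ᵀ,
    by rw [← transpose_mul, ← Units.val_mul, mul_inv_cancel, Units.val_one, transpose_one],
    by rw [← transpose_mul, ← Units.val_mul, inv_mul_cancel, Units.val_one, transpose_one]⟩
  map_one' := Units.ext (by simp)
  map_mul' a b := Units.ext (by simp [_root_.mul_inv_rev, transpose_mul])

/-- The inverse transpose on `PGL_n`. -/
def dualHom (n : ℕ) (F : Type*) [Field F] : PGL(n, F) →* PGL(n, F) :=
  ProjGenLinGroup.lift (ProjGenLinGroup.mk.comp (invTrans n F)) (by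
    refine MonoidHom.ext fun u => ?_
    show ProjGenLinGroup.mk (invTrans n F (GeneralLinearGroup.scalar (Fin n) u)) = 1
    rw [show invTrans n F (GeneralLinearGroup.scalar (Fin n) u) = GeneralLinearGroup.scalar (Fin n) u⁻¹ from
      Units.ext (by
        show (((GeneralLinearGroup.scalar (Fin n) u)⁻¹ : GL (Fin n) F) : Matrix (Fin n) (Fin n) F)ᵀ = _
        rw [← map_inv]
        exact diagonal_transpose _)]
    exact ProjGenLinGroup.mk_scalar _)

theorem dualHom_mk (g : GL (Fin n) F) :
    dualHom n F (ProjGenLinGroup.mk g) = ProjGenLinGroup.mk (invTrans n F g) := rfl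

end CfsgLib.NilCover
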