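import Mathlib
import Cfsg.Agent.Lib.NilCover.Linear

/-!
# Groups between `PSL_n` and `PGL_n` have no nilpotent minimal cover
-/

set_option autoImplicit false
set_option linter.style.haveILetI false
set_option linter.unusedSectionVars false

open Matrix
open scoped MatrixGroups LinearAlgebra.Projectivization

namespace CfsgLib.NilCover

/-- The statement that a group has no nilpotent minimal cover. -/
def NoNilCover (X : Type*) [Group X] : Prop :=
  ¬ ∃ 𝓐 : Finset (Subgroup X), ((∀ A ∈ 𝓐, A ≠ ⊤) ∧ (∀ g : X, ∃ A ∈ 𝓐, g ∈ A)) ∧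
    (∀ 𝓑 : Finset (Subgroup X), (∀ A ∈ 𝓑, A ≠ ⊤) ∧ (∀ g : X, ∃ A ∈ 𝓑, g ∈ A) → 𝓐.card ≤ 𝓑.card) ∧
    (∀ A ∈ 𝓐, Group.IsNilpotent A)

variable {F : Type*} [Field F] [Fintype F] {n : ℕ} [NeZero n] {p : ℕ} [Fact p.Prime] [CharP F p]
  {G : Subgroup PGL(n, F)}

instance finite_pgl {K : Type*} [Field K] [Finite K] {m : ℕ} : Finite PGL(m, K) :=
  Finite.of_surjective _ ProjGenLinGroup.mk_surjective

theorem exists_char (K : Type*) [Field K] [Finite K] : ∃ q : ℕ, q.Prime ∧ CharP K q :=
  ⟨ringChar K, CharP.char_is_prime K _, inferInstance⟩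

/-- The image of `SL_n` in `G`. -/
def slHom (hG : ∀ s : SpecialLinearGroup (Fin n) F, ProjGenLinGroup.mk (SpecialLinearGroup.toGL s) ∈ G) :
    SpecialLinearGroup (Fin n) F →* G :=
  (ProjGenLinGroup.mk.comp SpecialLinearGroup.toGL).codRestrict G hG

variable (hG : ∀ s : SpecialLinearGroup (Fin n) F, ProjGenLinGroup.mk (SpecialLinearGroup.toGL s) ∈ G)
include hG

/-- The regular unipotent conjugate attached to an element of `SL_n`. -/
def unip (t : SpecialLinearGroup (Fin n) F) : G := slHom hG (t * regSL n F * t⁻¹)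

theorem unip_fix_iff (t : SpecialLinearGroup (Fin n) F) (x : ℙ F (Fin n → F)) :
    (unip hG t : PGL(n, F)) • x = x ↔ x = t • firstPt n F := by
  show (ProjGenLinGroup.mk (SpecialLinearGroup.toGL (t * regSL n F * t⁻¹)) : PGL(n, F)) • x = x ↔ _
  rw [mk_sl_smul, mul_smul, mul_smul, smul_eq_iff_eq_inv_smul, regSL_fix_iff, inv_smul_eq_iff]

theorem isPGroup_of_unip {A : Subgroup G} [Group.IsNilpotent A] (t : SpecialLinearGroup (Fin n) F)
    (ht : unip hG t ∈ A) : IsPGroup p A := by
  have hc : ∀ y : G, Commute y (unip hG t) → ∃ k, y ^ p ^ k = 1 := by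
    intro y hy
    set T : PGL(n, F) := ProjGenLinGroup.mk (SpecialLinearGroup.toGL t)
    have h1 : Commute (T⁻¹ * (y : PGL(n, F)) * T)
        (ProjGenLinGroup.mk (SpecialLinearGroup.toGL (regSL n F))) := by
      have h2 : (y : PGL(n, F)) * (T * ProjGenLinGroup.mk (SpecialLinearGroup.toGL (regSL n F)) * T⁻¹) =
          T * ProjGenLinGroup.mk (SpecialLinearGroup.toGL (regSL n F)) * T⁻¹ * (y : PGL(n, F)) := by
        have := congrArg Subtype.val hy.eq
        simpa [unip, slHom, T, map_mul, map_inv] using this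
      show _ = _
      calc T⁻¹ * (y : PGL(n, F)) * T * ProjGenLinGroup.mk (SpecialLinearGroup.toGL (regSL n F))
          = T⁻¹ * ((y : PGL(n, F)) * (T * ProjGenLinGroup.mk (SpecialLinearGroup.toGL (regSL n F)) * T⁻¹)) * T := by
            group
        _ = _ := by rw [h2]; group
    obtain ⟨k, hk⟩ := commute_regSL (p := p) _ h1
    refine ⟨k, Subtype.ext ?_⟩
    have h3 : (T⁻¹ * (y : PGL(n, F)) * T⁻¹⁻¹) ^ p ^ k = 1 := by rwa [inv_inv]
    rw [conj_pow] at h3
    rw [SubmonoidClass.coe_pow, OneMemClass.coe_one]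
    exact conj_eq_one_iff.1 h3
  obtain ⟨k, hk⟩ := hc _ (Commute.refl _)
  obtain ⟨i, -, hi⟩ := (Nat.dvd_prime_pow (Fact.out : p.Prime)).1 (orderOf_dvd_of_pow_eq_one hk)
  exact pgroup_of_centralizer ht ⟨i, hi⟩ hc

theorem fix_of_unip {A : Subgroup G} [Group.IsNilpotent A] (t : SpecialLinearGroup (Fin n) F)
    (ht : unip hG t ∈ A) : ∀ a ∈ A, (a : PGL(n, F)) • (t • firstPt n F) = t • firstPt n F := by
  obtain ⟨p, hp, hchar⟩ := exists_char F
  haveI := Fact.mk hp
  obtain ⟨x, hx⟩ := exists_fixed (p := p) (isPGroup_of_unip (p := p) hG t ht) G.subtype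
  have : x = t • firstPt n F := (unip_fix_iff hG t x).1 (hx _ ht)
  exact fun a ha => this ▸ hx a ha

theorem exists_sl (x : ℙ F (Fin n → F)) (hn : 2 ≤ n) :
    ∃ t : SpecialLinearGroup (Fin n) F, t • firstPt n F = x := by
  haveI : MulAction.IsPretransitive (SpecialLinearGroup (Fin n) F) (ℙ F (Fin n → F)) :=
    MulAction.isPretransitive_of_is_two_pretransitive
  exact MulAction.exists_smul_eq _ _ _

theorem stab_ne_top (hn : 2 ≤ n) (x : ℙ F (Fin n → F)) :
    (MulAction.stabilizer PGL(n, F) x).subgroupOf G ≠ ⊤ := by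
  intro e
  obtain ⟨y, hy⟩ : ∃ y : ℙ F (Fin n → F), y ≠ x := by
    by_cases hx : x = firstPt n F
    · refine ⟨Projectivization.mk F (Pi.single ⟨1, by omega⟩ 1) (by simp), fun e1 => ?_⟩
      rw [hx, firstPt, Projectivization.mk_eq_mk_iff'] at e1
      obtain ⟨a, ha⟩ := e1
      have := congrFun ha ⟨1, by omega⟩
      simp [Fin.ext_iff] at this
    · exact ⟨_, Ne.symm hx⟩
  obtain ⟨t, ht⟩ := exists_sl hG x hn
  obtain ⟨t', ht'⟩ := exists_sl hG y hn
  have h1 : slHom hG (t' * t⁻¹) ∈ (MulAction.stabilizer PGL(n, F) x).subgroupOf G := e ▸ Subgroup.mem_top _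
  have h2 : (ProjGenLinGroup.mk (SpecialLinearGroup.toGL (t' * t⁻¹)) : PGL(n, F)) • x = x := h1
  rw [mk_sl_smul, mul_smul, ← ht, inv_smul_smul, ht', ht] at h2
  exact hy h2

open Classical in
/-- A chosen element moving the first point to a given point. -/
noncomputable def trans (hn : 2 ≤ n) (x : ℙ F (Fin n → F)) : SpecialLinearGroup (Fin n) F :=
  if x = firstPt n F then 1 else (exists_sl hG x hn).choose

theorem trans_spec (hn : 2 ≤ n) (x : ℙ F (Fin n → F)) : trans hG hn x • firstPt n F = x := by
  rw [trans]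
  split_ifs with h
  · rw [one_smul, h]
  · exact (exists_sl hG x hn).choose_spec

/-- The case `n ≥ 3`. -/
theorem noNilCover_big (hn : 3 ≤ n) : NoNilCover G := by
  obtain ⟨p, hp, hchar⟩ := exists_char F
  haveI := Fact.mk hp
  have hn2 : 2 ≤ n := by omega
  haveI : Finite (ℙ F (Fin n → F)) := inferInstance
  set il : Fin n := ⟨n - 1, by omega⟩
  set jl : Fin n := ⟨n - 2, by omega⟩
  have hne : il ≠ jl := fun e => by
    have := congrArg Fin.val e
    simp only [il, jl] at this
    omega
  let M : SpecialLinearGroup (Fin n) F := ⟨Matrix.transvection il jl 1, det_transvection_of_ne il jl hne 1⟩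
  have hMfirst : M • firstPt n F = firstPt n F := by
    rw [← mk_sl_smul, firstPt, fix_iff]
    refine ⟨1, ?_⟩
    show Matrix.transvection il jl (1 : F) *ᵥ Pi.single 0 1 = _
    rw [Matrix.transvection, add_mulVec, one_mulVec, one_smul, add_eq_left, Matrix.single_mulVec]
    have h0 : (0 : Fin n) ≠ jl := fun e => by
      have := congrArg Fin.val e
      simp only [jl, Fin.val_zero] at this
      omega
    funext i
    simp [Function.update_apply, Pi.single_eq_of_ne (Ne.symm h0)]
  let e : Option (ℙ F (Fin n → F)) → G := fun o => o.elim (unip hG M) fun x => unip hG (trans hG hn2 x)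
  refine false_of_replacement (fun g : G => ∃ x : ℙ F (Fin n → F), (g : PGL(n, F)) • x = x)
    (fun x => (MulAction.stabilizer PGL(n, F) x).subgroupOf G) (stab_ne_top hG hn2)
    (fun g ⟨x, hx⟩ => ⟨x, hx⟩) e ?_ ?_ ?_
  · haveI : Fintype (ℙ F (Fin n → F)) := Fintype.ofFinite _
    rw [Nat.card_eq_fintype_card, Nat.card_eq_fintype_card, Fintype.card_option]
    omega
  · intro A hA o ho a ha
    cases o with
    | none => exact ⟨_, fix_of_unip hG M ho a ha⟩
    | some x => exact ⟨_, fix_of_unip hG _ ho a ha⟩
  · intro A hA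
    have hsome : ∀ x y, e (some x) ∈ A → e (some y) ∈ A → x = y := by
      intro x y hx hy
      have h1 := fix_of_unip hG _ hx (e (some y)) hy
      rw [trans_spec] at h1
      have h2 := (unip_fix_iff hG _ x).1 h1
      rw [trans_spec] at h2
      exact h2
    have hnone : ∀ x, e none ∈ A → e (some x) ∈ A → False := by
      intro x hnn hx
      have h1 := fix_of_unip hG _ hx (e none) hnn
      rw [trans_spec] at h1
      have hxf : x = firstPt n F := by
        have := (unip_fix_iff hG M x).1 h1
        rwa [hMfirst] at this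
      obtain ⟨w, hw⟩ := exists_fixed (p := p) (isPGroup_of_unip (p := p) hG M hnn)
        ((dualHom n F).comp G.subtype)
      have key : ∀ z : ℙ F (Fin n → F),
          dualHom n F (ProjGenLinGroup.mk (SpecialLinearGroup.toGL (regSL n F))) • z = z →
          z = Projectivization.mk F (Pi.single il 1) (by simp) := by
        intro z hz
        induction z using Projectivization.ind with
        | _ v hv =>
          rw [dualHom_mk, fix_iff] at hz
          obtain ⟨c, hc⟩ := hz
          set U := SpecialLinearGroup.toGL (regSL n F)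
          have hc' : ((U⁻¹ : GL (Fin n) F) : Matrix (Fin n) (Fin n) F)ᵀ *ᵥ v = c • v := hc
          have h2 : v = c • ((regMat n F)ᵀ *ᵥ v) := by
            have h3 := congrArg (fun w => (regMat n F)ᵀ *ᵥ w) hc'
            simp only [mulVec_mulVec, mulVec_smul, ← transpose_mul] at h3
            rwa [show ((U⁻¹ : GL (Fin n) F) : Matrix (Fin n) (Fin n) F) * regMat n F = 1 from
              Units.inv_mul U, transpose_one, one_mulVec] at h3
          have hc0 : c ≠ 0 := fun e0 => hv (by rw [h2, e0, zero_smul])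
          have h4 : (regMat n F)ᵀ *ᵥ v = c⁻¹ • v := by
            conv_rhs => rw [h2, smul_smul, inv_mul_cancel₀ hc0, one_smul]
          rw [Projectivization.mk_eq_mk_iff']
          refine ⟨v il, funext fun i => ?_⟩
          rcases eq_or_ne i il with rfl | hi
          · simp
          · rw [eigen_regMatT h4 i (by
              have := i.2
              by_contra hlt
              exact hi (Fin.ext (by simp only [il]; omega)))]
            simp [Pi.single_eq_of_ne hi]
      set L := Projectivization.mk F (Pi.single il (1 : F) : Fin n → F) (by simp)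
      have hw1 : dualHom n F (unip hG (trans hG hn2 x) : PGL(n, F)) • w = w := hw _ hx
      rw [hxf, trans, if_pos rfl] at hw1
      have hwL : w = L := key w (by simpa [unip, slHom] using hw1)
      have hw2 : dualHom n F (unip hG M : PGL(n, F)) • w = w := hw _ hnn
      set T : PGL(n, F) := ProjGenLinGroup.mk (SpecialLinearGroup.toGL M)
      have h5 : (dualHom n F T)⁻¹ • w = L := key _ (by
        have : dualHom n F (T * ProjGenLinGroup.mk (SpecialLinearGroup.toGL (regSL n F)) * T⁻¹) • w = w := by
          simpa [unip, slHom, T, map_mul, map_inv] using hw2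
        rw [map_mul, map_mul, map_inv, mul_smul, mul_smul, smul_eq_iff_eq_inv_smul] at this
        exact this)
      rw [hwL, inv_smul_eq_iff] at h5
      have h6 := h5.symm
      rw [dualHom_mk, fix_iff] at h6
      obtain ⟨c, hc⟩ := h6
      set MU := SpecialLinearGroup.toGL M
      have hc' : ((MU⁻¹ : GL (Fin n) F) : Matrix (Fin n) (Fin n) F)ᵀ *ᵥ Pi.single il 1 =
          c • Pi.single il 1 := hc
      have h7 := congrArg (fun w => (Matrix.transvection il jl (1 : F))ᵀ *ᵥ w) hc'
      simp only [mulVec_mulVec, mulVec_smul, ← transpose_mul] at h7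
      rw [show ((MU⁻¹ : GL (Fin n) F) : Matrix (Fin n) (Fin n) F) * Matrix.transvection il jl 1 = 1 from
        Units.inv_mul MU, transpose_one, one_mulVec] at h7
      have h8 := congrFun h7 jl
      have h9 := congrFun h7 il
      simp [Matrix.transvection, transpose_apply, one_apply, hne, hne.symm] at h8 h9
      exact one_ne_zero (h9.trans h8.symm)
    intro i j hi hj
    cases i with
    | none =>
      cases j with
      | none => rfl
      | some y => exact (hnone y hi hj).elim
    | some x =>
      cases j with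
      | none => exact (hnone x hj hi).elim
      | some y => exact congrArg some (hsome x y hi hj)

end CfsgLib.NilCover
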