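import Mathlib
import Cfsg.Agent.Lib.NilCover.PGL

/-!
# The two-dimensional case
-/

set_option autoImplicit false
set_option linter.style.haveILetI false
set_option linter.unusedSectionVars false

open Matrix
open scoped MatrixGroups LinearAlgebra.Projectivization

namespace CfsgLib.NilCover

variable {F : Type*} [Field F] [Fintype F]

/-- The second point. -/
def sndPt (F : Type*) [Field F] : ℙ F (Fin 2 → F) :=
  Projectivization.mk F (Pi.single 1 1) (by simp)

theorem firstPt_ne_sndPt : firstPt 2 F ≠ sndPt F := by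
  intro e
  rw [firstPt, sndPt, Projectivization.mk_eq_mk_iff'] at e
  obtain ⟨a, ha⟩ := e
  have := congrFun ha 0
  simp at this

/-- A diagonal element of `GL₂`. -/
def diagGL (a : Fˣ) : GL (Fin 2) F :=
  ⟨!![(a : F), 0; 0, 1], !![((a⁻¹ : Fˣ) : F), 0; 0, 1], by simp [Matrix.one_fin_two], by simp [Matrix.one_fin_two]⟩

theorem mulVec_two (M : Matrix (Fin 2) (Fin 2) F) (v : Fin 2 → F) (i : Fin 2) :
    (M *ᵥ v) i = M i 0 * v 0 + M i 1 * v 1 := by
  simp [mulVec, dotProduct, Fin.sum_univ_two]

theorem fix_first (Y : GL (Fin 2) F) (h : (Y : Matrix (Fin 2) (Fin 2) F) 1 0 = 0) :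
    (ProjGenLinGroup.mk Y : PGL(2, F)) • firstPt 2 F = firstPt 2 F := by
  rw [firstPt, fix_iff]
  refine ⟨(Y : Matrix (Fin 2) (Fin 2) F) 0 0, funext fun i => ?_⟩
  rw [mulVec_two]
  fin_cases i <;> simp [h]

theorem fix_snd (Y : GL (Fin 2) F) (h : (Y : Matrix (Fin 2) (Fin 2) F) 0 1 = 0) :
    (ProjGenLinGroup.mk Y : PGL(2, F)) • sndPt F = sndPt F := by
  rw [sndPt, fix_iff]
  refine ⟨(Y : Matrix (Fin 2) (Fin 2) F) 1 1, funext fun i => ?_⟩
  rw [mulVec_two]
  fin_cases i <;> simp [h]

/-- Projective commutation with a diagonal element. -/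
theorem commute_diag (a : Fˣ) (ha : (a : F) ≠ 1) (Y : GL (Fin 2) F)
    (h : Commute (ProjGenLinGroup.mk Y : PGL(2, F)) (ProjGenLinGroup.mk (diagGL a))) :
    ((Y : Matrix (Fin 2) (Fin 2) F) 0 1 = 0 ∧ (Y : Matrix (Fin 2) (Fin 2) F) 1 0 = 0) ∨
      ((Y : Matrix (Fin 2) (Fin 2) F) 0 0 = 0 ∧ (Y : Matrix (Fin 2) (Fin 2) F) 1 1 = 0 ∧ (a : F) * a = 1) := by
  obtain ⟨t, ht⟩ := ProjGenLinGroup.mk_eq_mk_iff.1 (show ProjGenLinGroup.mk (Y * diagGL a) =
    ProjGenLinGroup.mk (diagGL a * Y) by rw [map_mul, map_mul]; exact h.eq)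
  have hm : (Y : Matrix (Fin 2) (Fin 2) F) * !![(a : F), 0; 0, 1] * scalar (Fin 2) (t : F) =
      !![(a : F), 0; 0, 1] * (Y : Matrix (Fin 2) (Fin 2) F) := congrArg Units.val ht
  set M := (Y : Matrix (Fin 2) (Fin 2) F)
  have e00 : M 0 0 * a * t = a * M 0 0 := by
    have := congrFun (congrFun hm 0) 0
    simpa [Matrix.mul_apply, Fin.sum_univ_two, scalar_apply] using this
  have e01 : M 0 1 * t = a * M 0 1 := by
    have := congrFun (congrFun hm 0) 1
    simpa [Matrix.mul_apply, Fin.sum_univ_two, scalar_apply] using this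
  have e10 : M 1 0 * a * t = M 1 0 := by
    have := congrFun (congrFun hm 1) 0
    simpa [Matrix.mul_apply, Fin.sum_univ_two, scalar_apply] using this
  have e11 : M 1 1 * t = M 1 1 := by
    have := congrFun (congrFun hm 1) 1
    simpa [Matrix.mul_apply, Fin.sum_univ_two, scalar_apply] using this
  have hdet : M 0 0 * M 1 1 - M 0 1 * M 1 0 ≠ 0 := by
    rw [← det_fin_two]
    exact (isUnit_iff_isUnit_det _).1 Y.isUnit |>.ne_zero
  by_cases h1 : (t : F) = 1
  · left
    rw [h1, mul_one] at e01 e10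
    refine ⟨?_, ?_⟩
    · have : ((a : F) - 1) * M 0 1 = 0 := by linear_combination -e01
      exact (mul_eq_zero.1 this).resolve_left (sub_ne_zero.2 ha)
    · have : ((a : F) - 1) * M 1 0 = 0 := by linear_combination e10
      exact (mul_eq_zero.1 this).resolve_left (sub_ne_zero.2 ha)
  · right
    have h00 : M 0 0 = 0 := by
      have : ((t : F) - 1) * ((a : F) * M 0 0) = 0 := by linear_combination e00
      simpa [Units.ne_zero] using (mul_eq_zero.1 this).resolve_left (sub_ne_zero.2 h1)
    have h11 : M 1 1 = 0 := by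
      have : ((t : F) - 1) * M 1 1 = 0 := by linear_combination e11
      exact (mul_eq_zero.1 this).resolve_left (sub_ne_zero.2 h1)
    rw [h00, zero_mul, zero_sub, neg_ne_zero, mul_ne_zero_iff] at hdet
    refine ⟨h00, h11, ?_⟩
    have hta : (t : F) = a := mul_left_cancel₀ hdet.1 (e01.trans (mul_comm _ _))
    rw [hta, mul_assoc] at e10
    exact mul_left_cancel₀ hdet.2 (e10.trans (mul_one _).symm)

theorem fix_of_commute_diag (a : Fˣ) (ha : (a : F) * a ≠ 1) (y : PGL(2, F))
    (h : Commute y (ProjGenLinGroup.mk (diagGL a))) :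
    y • firstPt 2 F = firstPt 2 F ∧ y • sndPt F = sndPt F ∧
      (y ≠ 1 → ∀ x : ℙ F (Fin 2 → F), y • x = x → x = firstPt 2 F ∨ x = sndPt F) := by
  cases y with
  | mk Y =>
    have ha1 : (a : F) ≠ 1 := fun e => ha (by rw [e, one_mul])
    rcases commute_diag a ha1 Y h with ⟨h01, h10⟩ | ⟨-, -, e⟩
    · refine ⟨fix_first Y h10, fix_snd Y h01, fun hne x hx => ?_⟩
      have hd : (Y : Matrix (Fin 2) (Fin 2) F) 0 0 ≠ (Y : Matrix (Fin 2) (Fin 2) F) 1 1 := by
        intro e
        apply hne
        rw [ProjGenLinGroup.mk_eq_one, GeneralLinearGroup.center_eq_range_scalar]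
        have hu : (Y : Matrix (Fin 2) (Fin 2) F) 0 0 ≠ 0 := by
          intro e0
          have hdet := ((isUnit_iff_isUnit_det _).1 Y.isUnit).ne_zero
          rw [det_fin_two, e0, h01] at hdet
          simp at hdet
        refine ⟨Units.mk0 _ hu, Units.ext ?_⟩
        ext i j
        fin_cases i <;> fin_cases j <;> simp [scalar_apply, h01, h10, e]
      induction x using Projectivization.ind with
      | _ v hv =>
        obtain ⟨c, hc⟩ := (fix_iff Y v hv).1 hx
        have c0 := congrFun hc 0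
        have c1 := congrFun hc 1
        rw [mulVec_two, h01, zero_mul, add_zero, Pi.smul_apply, smul_eq_mul] at c0
        rw [mulVec_two, h10, zero_mul, zero_add, Pi.smul_apply, smul_eq_mul] at c1
        by_cases hv1 : v 1 = 0
        · left
          exact eq_firstPt hv fun i hi => by
            obtain rfl : i = 1 := by fin_cases i <;> simp_all
            exact hv1
        · right
          rw [sndPt, Projectivization.mk_eq_mk_iff']
          have hv0 : v 0 = 0 := by
            have hc1 : (Y : Matrix (Fin 2) (Fin 2) F) 1 1 = c := mul_right_cancel₀ hv1 c1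
            by_contra hv0
            exact hd ((mul_right_cancel₀ hv0 c0).trans hc1.symm)
          refine ⟨v 1, funext fun i => ?_⟩
          fin_cases i <;> simp [hv0]
    · exact absurd e ha

theorem card_proj_two : Nat.card (ℙ F (Fin 2 → F)) = Fintype.card F + 1 := by
  have h := Projectivization.card' F (Fin 2 → F)
  rw [Nat.card_fun, Nat.card_eq_fintype_card (α := F), Nat.card_fin] at h
  obtain ⟨r, hr⟩ : ∃ r, Fintype.card F = r + 2 :=
    ⟨Fintype.card F - 2, by have := Fintype.one_lt_card (α := F); omega⟩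
  rw [hr, show r + 2 - 1 = r + 1 by omega] at h
  rw [hr]
  refine Nat.eq_of_mul_eq_mul_right (Nat.succ_pos r) ?_
  have : (r + 2 + 1) * (r + 1) + 1 = (r + 2) ^ 2 := by ring
  rw [Nat.succ_eq_add_one]
  omega

/-- The parameters of irreducible quadratics. -/
def IrrPair (F : Type*) [Field F] : Type _ := {bd : F × F // ∀ x : F, x * x ≠ bd.2 * x + bd.1}

instance : Finite (IrrPair F) := Subtype.finite

theorem card_irrPair : Nat.card (IrrPair F) + (Fintype.card F + 1).choose 2 ≤ Fintype.card F * Fintype.card F := by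
  classical
  let f : IrrPair F ⊕ Sym2 F → F × F := Sum.elim Subtype.val
    (Sym2.lift ⟨fun r s => (-(r * s), r + s), fun r s => Prod.ext (by simp [mul_comm]) (add_comm r s)⟩)
  have hf : Function.Injective f := by
    have hsum : ∀ (x : IrrPair F) (z : Sym2 F), f (Sum.inl x) ≠ f (Sum.inr z) := by
      intro x z
      induction z using Sym2.ind with
      | _ r s =>
        intro e
        have e' : x.1 = (-(r * s), r + s) := e
        apply x.2 r
        rw [e']
        ring
    rintro (x | z) (y | w) e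
    · exact congrArg Sum.inl (Subtype.ext e)
    · exact absurd e (hsum x w)
    · exact absurd e.symm (hsum y z)
    · refine congrArg Sum.inr ?_
      induction z using Sym2.ind with
      | _ r s =>
        induction w using Sym2.ind with
        | _ u v =>
          obtain ⟨h1, h2⟩ : -(r * s) = -(u * v) ∧ r + s = u + v := Prod.ext_iff.1 e
          have h3 : (r - u) * (r - v) = 0 := by linear_combination h1 + r * h2
          rw [Sym2.eq_iff]
          rcases mul_eq_zero.1 h3 with h4 | h4
          · left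
            exact ⟨sub_eq_zero.1 h4, by linear_combination h2 - h4⟩
          · right
            exact ⟨sub_eq_zero.1 h4, by linear_combination h2 - h4⟩
  haveI : Fintype (IrrPair F) := Fintype.ofFinite _
  have := Fintype.card_le_of_injective f hf
  rw [Fintype.card_sum, Sym2.card, Fintype.card_prod] at this
  rwa [Nat.card_eq_fintype_card]

theorem two_mul_choose (q : ℕ) : 2 * (q + 1).choose 2 = (q + 1) * q := by
  induction q with
  | zero => rfl
  | succ q ih =>
    rw [Nat.choose_succ_succ' (q + 1) 1, Nat.choose_one_right, mul_add, ih]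
    ring

variable {G : Subgroup PGL(2, F)}
  (hG : ∀ s : SpecialLinearGroup (Fin 2) F, ProjGenLinGroup.mk (SpecialLinearGroup.toGL s) ∈ G)
include hG

theorem diag_conj_fix (a : Fˣ) (ha : (a : F) * a ≠ 1) (haG : ProjGenLinGroup.mk (diagGL a) ∈ G)
    (g : SpecialLinearGroup (Fin 2) F) (z : G)
    (hz : Commute z (slHom hG g * ⟨_, haG⟩ * (slHom hG g)⁻¹)) :
    (z : PGL(2, F)) • (g • firstPt 2 F) = g • firstPt 2 F ∧
      (z : PGL(2, F)) • (g • sndPt F) = g • sndPt F ∧
      (z ≠ 1 → ∀ x : ℙ F (Fin 2 → F), (z : PGL(2, F)) • x = x → x = g • firstPt 2 F ∨ x = g • sndPt F) := by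
  set T : PGL(2, F) := ProjGenLinGroup.mk (SpecialLinearGroup.toGL g)
  have h1 : Commute (T⁻¹ * (z : PGL(2, F)) * T) (ProjGenLinGroup.mk (diagGL a)) := by
    have h2 : (z : PGL(2, F)) * (T * ProjGenLinGroup.mk (diagGL a) * T⁻¹) =
        T * ProjGenLinGroup.mk (diagGL a) * T⁻¹ * (z : PGL(2, F)) := by
      simpa [slHom, T] using congrArg Subtype.val hz.eq
    show _ = _
    calc T⁻¹ * (z : PGL(2, F)) * T * ProjGenLinGroup.mk (diagGL a)
        = T⁻¹ * ((z : PGL(2, F)) * (T * ProjGenLinGroup.mk (diagGL a) * T⁻¹)) * T := by group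
      _ = _ := by rw [h2]; group
  obtain ⟨e1, e2, e3⟩ := fix_of_commute_diag a ha _ h1
  have hT : ∀ x : ℙ F (Fin 2 → F), (T⁻¹ * (z : PGL(2, F)) * T) • x = x ↔ (z : PGL(2, F)) • (g • x) = g • x := by
    intro x
    rw [mul_smul, mul_smul, inv_smul_eq_iff, show T • x = g • x from mk_sl_smul g x]
  refine ⟨(hT _).1 e1, (hT _).1 e2, fun hz1 x hx => ?_⟩
  have hne : T⁻¹ * (z : PGL(2, F)) * T ≠ 1 := fun e => hz1 (Subtype.ext (by
    calc (z : PGL(2, F)) = T * (T⁻¹ * (z : PGL(2, F)) * T) * T⁻¹ := by group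
      _ = 1 := by rw [e]; group))
  rcases e3 hne (g⁻¹ • x) ((hT _).2 (by rw [smul_inv_smul]; exact hx)) with e | e
  · exact Or.inl (inv_smul_eq_iff.1 e)
  · exact Or.inr (inv_smul_eq_iff.1 e)

theorem nontrivial_center {X : Type*} [Group X] [Group.IsNilpotent X] [Nontrivial X] :
    Nontrivial (Subgroup.center X) := by
  rw [Subgroup.nontrivial_iff_ne_bot]
  intro hc
  have hu : ∀ n, Subgroup.upperCentralSeries X n = ⊥ := by
    intro n
    induction n with
    | zero => rfl
    | succ n ih =>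
      rw [eq_bot_iff]
      intro w hw
      rw [← hc, Subgroup.mem_center_iff]
      intro v
      have h1 := Subgroup.mem_upperCentralSeries_succ_iff.1 hw v
      rw [ih, Subgroup.mem_bot, commutatorElement_eq_one_iff_mul_comm] at h1
      exact h1.symm
  exact top_ne_bot (Subgroup.upperCentralSeries_nilpotencyClass.symm.trans (hu _))

/-- A finite field element of order prime to `p`. -/
theorem diag_not_pgroup {p : ℕ} [Fact p.Prime] [CharP F p] (a : Fˣ) (ha : (a : F) * a ≠ 1)
    (haG : ProjGenLinGroup.mk (diagGL a) ∈ G) (g : SpecialLinearGroup (Fin 2) F) {A : Subgroup G}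
    (hA : IsPGroup p A) : slHom hG g * ⟨_, haG⟩ * (slHom hG g)⁻¹ ∉ A := by
  intro hd
  obtain ⟨k, hk⟩ := hA ⟨_, hd⟩
  have h1 : (ProjGenLinGroup.mk (diagGL a) : PGL(2, F)) ^ p ^ k = 1 := by
    have h2 : slHom hG g * (⟨_, haG⟩ : G) ^ p ^ k * (slHom hG g)⁻¹ = 1 := by
      rw [← conj_pow]; exact congrArg Subtype.val hk
    exact congrArg Subtype.val (conj_eq_one_iff.1 h2)
  have hpow : ∀ m : ℕ, ((diagGL a ^ m : GL (Fin 2) F) : Matrix (Fin 2) (Fin 2) F) = !![(a : F) ^ m, 0; 0, 1] := by
    intro m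
    induction m with
    | zero => simp [Matrix.one_fin_two]
    | succ m ih =>
      rw [pow_succ, Units.val_mul, ih]
      show _ * !![(a : F), 0; 0, 1] = _
      simp [pow_succ]
  rw [← map_pow, ProjGenLinGroup.mk_eq_one, GeneralLinearGroup.center_eq_range_scalar] at h1
  obtain ⟨u, hu⟩ := h1
  have hu' : scalar (Fin 2) (u : F) = !![(a : F) ^ p ^ k, 0; 0, 1] := (congrArg Units.val hu).trans (hpow _)
  have e0 := congrFun (congrFun hu' 0) 0
  have e1 := congrFun (congrFun hu' 1) 1
  simp [scalar_apply] at e0 e1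
  rw [e1] at e0
  apply ha
  have : (a : F) = 1 := by
    refine iterateFrobenius_inj F p k ?_
    rw [iterateFrobenius_def, iterateFrobenius_def, one_pow, ← e0, Units.val_one]
  rw [this, one_mul]

/-- The generic case of dimension two. -/
theorem noNilCover_two (a : Fˣ) (ha : (a : F) * a ≠ 1) (haG : ProjGenLinGroup.mk (diagGL a) ∈ G) :
    NoNilCover G := by
  classical
  obtain ⟨p, hp, hchar⟩ := exists_char F
  haveI := Fact.mk hp
  haveI : Fintype (ℙ F (Fin 2 → F)) := Fintype.ofFinite _
  set D : G := ⟨_, haG⟩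
  let I := {s : Sym2 (ℙ F (Fin 2 → F)) // ¬ s.IsDiag}
  haveI : MulAction.IsMultiplyPretransitive (SpecialLinearGroup (Fin 2) F) (ℙ F (Fin 2 → F)) 2 := inferInstance
  have hpair : ∀ s : I, ∃ g : SpecialLinearGroup (Fin 2) F, s.1 = s(g • firstPt 2 F, g • sndPt F) := by
    rintro ⟨s, hs⟩
    induction s using Sym2.ind with
    | _ x y =>
      obtain ⟨g, hg1, hg2⟩ := MulAction.is_two_pretransitive_iff.1
        (inferInstance : MulAction.IsMultiplyPretransitive (SpecialLinearGroup (Fin 2) F) (ℙ F (Fin 2 → F)) 2)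
        firstPt_ne_sndPt (fun e => hs (Sym2.mk_isDiag_iff.2 e) : x ≠ y)
      exact ⟨g, by rw [hg1, hg2]⟩
  choose gs hgs using hpair
  let e : ℙ F (Fin 2 → F) ⊕ I → G := Sum.elim (fun x => unip hG (trans hG le_rfl x))
    (fun s => slHom hG (gs s) * D * (slHom hG (gs s))⁻¹)
  let K : ℙ F (Fin 2 → F) ⊕ IrrPair F → Subgroup G := Sum.elim
    (fun x => (MulAction.stabilizer PGL(2, F) x).subgroupOf G)
    (fun bd =>
      ((Subgroup.centralizer {g : GL (Fin 2) F | (g : Matrix (Fin 2) (Fin 2) F) = !![0, bd.1.1; 1, bd.1.2]}).map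
        ProjGenLinGroup.mk).subgroupOf G)
  have hN : ∀ bd : IrrPair F, IsUnit (!![0, bd.1.1; 1, bd.1.2] : Matrix (Fin 2) (Fin 2) F) := by
    intro bd
    rw [isUnit_iff_isUnit_det, det_fin_two]
    have := bd.2 0
    simp at this
    simpa using Ne.symm this
  refine false_of_replacement (fun _ => True) K ?_ ?_ e ?_ (fun _ _ _ _ _ _ => trivial) ?_
  · rintro (x | bd)
    · exact stab_ne_top hG le_rfl x
    · intro hK
      have h1 : D ∈ K (Sum.inr bd) := hK ▸ Subgroup.mem_top _
      obtain ⟨Y, hY, hYD⟩ := Subgroup.mem_subgroupOf.1 h1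
      obtain ⟨t, ht⟩ := ProjGenLinGroup.mk_eq_mk_iff.1 hYD
      have hc := congrArg Units.val (Subgroup.mem_centralizer_iff.1 hY (hN bd).unit (hN bd).unit_spec)
      have hm : (Y : Matrix (Fin 2) (Fin 2) F) * scalar (Fin 2) (t : F) = !![(a : F), 0; 0, 1] :=
        congrArg Units.val ht
      set M := (Y : Matrix (Fin 2) (Fin 2) F)
      have hc' : !![0, bd.1.1; 1, bd.1.2] * M = M * !![0, bd.1.1; 1, bd.1.2] := hc
      have hc2 := congrArg (fun X => X * scalar (Fin 2) (t : F)) hc'
      simp only [mul_assoc] at hc2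
      rw [hm, ← (scalar_commute (t : F) (fun r => mul_comm _ r) (!![0, bd.1.1; 1, bd.1.2])).eq,
        ← mul_assoc, hm] at hc2
      have := congrFun (congrFun hc2 1) 0
      simp [Matrix.mul_apply, Fin.sum_univ_two] at this
      exact ha (by rw [this]; simp)
  · intro g _
    obtain ⟨y, hyG⟩ := g
    cases y with
    | mk Y =>
      by_cases hfix : ∃ x : ℙ F (Fin 2 → F), (ProjGenLinGroup.mk Y : PGL(2, F)) • x = x
      · obtain ⟨x, hx⟩ := hfix
        exact ⟨Sum.inl x, hx⟩
      · set M := (Y : Matrix (Fin 2) (Fin 2) F)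
        have h10 : M 1 0 ≠ 0 := fun e0 => hfix ⟨_, fix_first Y e0⟩
        have hdet : M 0 0 * M 1 1 - M 0 1 * M 1 0 ≠ 0 := by
          rw [← det_fin_two]
          exact ((isUnit_iff_isUnit_det _).1 Y.isUnit).ne_zero
        have hirr : ∀ x : F, x * x ≠ (M 1 1 - M 0 0) / M 1 0 * x + M 0 1 / M 1 0 := by
          intro x hx
          refine hfix ⟨Projectivization.mk F ![M 0 1 / M 1 0 , x] ?_, ?_⟩
          · intro e0
            have h1 : M 0 1 / M 1 0 = 0 := congrFun e0 0
            rcases div_eq_zero_iff.1 h1 with h2 | h2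
            · exact hfix ⟨_, fix_snd Y h2⟩
            · exact h10 h2
          · rw [fix_iff]
            refine ⟨M 1 0 * x + M 0 0, funext fun i => ?_⟩
            field_simp at hx
            rw [mulVec_two]
            fin_cases i
            · simp only [Fin.zero_eta, Pi.smul_apply, smul_eq_mul, Matrix.cons_val_zero, Matrix.cons_val_one]
              show M 0 0 * _ + M 0 1 * x = _
              field_simp
              ring
            · simp only [Fin.mk_one, Pi.smul_apply, smul_eq_mul, Matrix.cons_val_zero, Matrix.cons_val_one]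
              show M 1 0 * _ + M 1 1 * x = _
              field_simp
              linear_combination -hx
        refine ⟨Sum.inr ⟨(M 0 1 / M 1 0, (M 1 1 - M 0 0) / M 1 0), hirr⟩, Y, ?_, rfl⟩
        refine Subgroup.mem_centralizer_iff.2 fun N hN' => Units.ext ?_
        have hN'' : (N : Matrix (Fin 2) (Fin 2) F) = !![0, M 0 1 / M 1 0; 1, (M 1 1 - M 0 0) / M 1 0] := hN'
        rw [Units.val_mul, Units.val_mul, hN'']
        change _ * M = M * _
        ext i j
        fin_cases i <;> fin_cases j <;> simp [Matrix.mul_apply, Fin.sum_univ_two] <;> field_simp <;> ring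
  · haveI : Fintype (IrrPair F) := Fintype.ofFinite _
    rw [Nat.card_sum, Nat.card_sum]
    have h1 : Nat.card I = (Fintype.card F + 1).choose 2 := by
      rw [Nat.card_eq_fintype_card, Sym2.card_subtype_not_diag, ← Nat.card_eq_fintype_card, card_proj_two]
    have h2 := card_irrPair (F := F)
    have h3 := two_mul_choose (Fintype.card F)
    have h4 : 0 < Fintype.card F := Fintype.card_pos
    have h5 : (Fintype.card F + 1) * Fintype.card F = Fintype.card F * Fintype.card F + Fintype.card F := by ring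
    omega
  · intro A hA i j hi hj
    have hmix : ∀ (x : ℙ F (Fin 2 → F)) (s : I), e (Sum.inl x) ∈ A → e (Sum.inr s) ∈ A → False :=
      fun x s hx hs => diag_not_pgroup hG a ha haG _ (isPGroup_of_unip (p := p) hG _ hx) hs
    rcases i with x | s <;> rcases j with y | t
    · have h1 := fix_of_unip hG _ hi (e (Sum.inl y)) hj
      rw [trans_spec] at h1
      have h2 := (unip_fix_iff hG _ x).1 h1
      rw [trans_spec] at h2
      rw [h2]
    · exact (hmix x t hi hj).elim
    · exact (hmix y s hj hi).elim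
    · haveI : Nontrivial A := ⟨⟨⟨_, hi⟩, 1, fun e1 =>
        diag_not_pgroup (p := p) hG a ha haG (gs s) (A := ⊥) IsPGroup.of_bot
          (Subgroup.mem_bot.2 (congrArg Subtype.val e1))⟩⟩
      haveI := nontrivial_center hG (X := A)
      obtain ⟨⟨⟨z, hzA⟩, hz⟩, hz1⟩ := exists_ne (1 : Subgroup.center A)
      have hzne : z ≠ 1 := fun e1 => hz1 (Subtype.ext (Subtype.ext e1))
      obtain ⟨a1, a2, a3⟩ := diag_conj_fix hG a ha haG (gs s) z
        ((congrArg Subtype.val (Subgroup.mem_center_iff.1 hz ⟨_, hi⟩)).symm)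
      obtain ⟨b1, b2, b3⟩ := diag_conj_fix hG a ha haG (gs t) z
        ((congrArg Subtype.val (Subgroup.mem_center_iff.1 hz ⟨_, hj⟩)).symm)
      refine congrArg Sum.inr (Subtype.ext ?_)
      rw [hgs s, hgs t, Sym2.eq_iff]
      have hs : gs s • firstPt 2 F ≠ gs s • sndPt F := fun e1 =>
        firstPt_ne_sndPt (MulAction.injective _ e1)
      rcases b3 hzne _ a1 with c1 | c1 <;> rcases b3 hzne _ a2 with c2 | c2
      · exact absurd (c1.trans c2.symm) hs
      · exact Or.inl ⟨c1, c2⟩
      · exact Or.inr ⟨c1, c2⟩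
      · exact absurd (c1.trans c2.symm) hs

end CfsgLib.NilCover
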