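import Mathlib
import Cfsg.Agent.Lib.NilCover.PGLTwo

/-!
# Groups between `PSL₂` and `PGL₂` over the field with five elements
-/

set_option autoImplicit false
set_option linter.style.haveILetI false
set_option linter.unusedSectionVars false

open Matrix
open scoped MatrixGroups LinearAlgebra.Projectivization

namespace CfsgLib.NilCover

variable {F : Type*} [Field F] [Fintype F]

theorem five_eq_zero (h5 : Fintype.card F = 5) : (5 : F) = 0 := by
  have h := Nat.cast_card_eq_zero F
  rw [h5] at h
  exact_mod_cast h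

/-- Every element of a nilpotent subgroup containing the split involution has a fixed point. -/
theorem exists_fix_five {G : Subgroup PGL(2, F)} (h5 : Fintype.card F = 5)
    (hG : ∀ s : SpecialLinearGroup (Fin 2) F, ProjGenLinGroup.mk (SpecialLinearGroup.toGL s) ∈ G)
    (hno : ∀ a : Fˣ, (a : F) * a ≠ 1 → ProjGenLinGroup.mk (diagGL a) ∉ G)
    (a : Fˣ) (ha : (a : F) * a = 1) (ha1 : (a : F) ≠ 1) (haG : ProjGenLinGroup.mk (diagGL a) ∈ G)
    (A : Subgroup G) [Group.IsNilpotent A] (hA : (⟨_, haG⟩ : G) ∈ A) {y : G} (hy : y ∈ A) :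
    ∃ x : ℙ F (Fin 2 → F), (y : PGL(2, F)) • x = x := by
  classical
  have h50 := five_eq_zero h5
  by_contra hfix
  obtain ⟨Y, hY⟩ := ProjGenLinGroup.mk_surjective (y : PGL(2, F))
  -- the determinant is `± 1`
  set δ : Fˣ := GeneralLinearGroup.det Y
  have hδ : (δ : F) * δ = 1 := by
    by_contra hne
    apply hno δ hne
    have hs : ((Y⁻¹ * diagGL δ : GL (Fin 2) F) : Matrix (Fin 2) (Fin 2) F).det = 1 := by
      have h1 : GeneralLinearGroup.det (Y⁻¹ * diagGL δ) = 1 := by
        rw [map_mul, map_inv]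
        have : GeneralLinearGroup.det (diagGL δ) = δ := Units.ext (by simp [diagGL, det_fin_two])
        rw [this, inv_mul_cancel]
      exact congrArg Units.val h1
    have h2 := mul_mem (hY.symm ▸ y.2 : ProjGenLinGroup.mk Y ∈ G) (hG ⟨_, hs⟩)
    rw [← map_mul] at h2
    convert h2 using 2
    exact Units.ext (by
      show _ = (Y : Matrix (Fin 2) (Fin 2) F) * ((Y⁻¹ * diagGL δ : GL (Fin 2) F) : Matrix (Fin 2) (Fin 2) F)
      rw [← Units.val_mul, mul_inv_cancel_left])
  -- normalize the determinant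
  obtain ⟨Y, hY, hdet⟩ : ∃ Z : GL (Fin 2) F, ProjGenLinGroup.mk Z = (y : PGL(2, F)) ∧
      (Z : Matrix (Fin 2) (Fin 2) F).det = 1 := by
    have hd : (Y : Matrix (Fin 2) (Fin 2) F).det = δ := rfl
    rcases mul_self_eq_one_iff.1 hδ with h | h
    · exact ⟨Y, hY, hd.trans h⟩
    · have h2 : (2 : F) ≠ 0 := fun e => by
        have : (1 : F) = 0 := by linear_combination h50 - 2 * e
        exact one_ne_zero this
      refine ⟨GeneralLinearGroup.scalar (Fin 2) (Units.mk0 2 h2) * Y, ?_, ?_⟩
      · rw [map_mul, ProjGenLinGroup.mk_scalar, one_mul, hY]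
      · rw [Units.val_mul, det_mul, hd, h, GeneralLinearGroup.coe_scalar, det_fin_two]
        simp [scalar_apply]
        linear_combination -h50
  set M := (Y : Matrix (Fin 2) (Fin 2) F)
  set t := M 0 0 + M 1 1
  have hdet' : M 0 0 * M 1 1 - M 0 1 * M 1 0 = 1 := by rw [← det_fin_two]; exact hdet
  have h10 : M 1 0 ≠ 0 := fun e => hfix ⟨_, hY ▸ fix_first Y e⟩
  -- the characteristic polynomial has no root
  have hroot : ∀ x : F, x * x + 1 ≠ t * x := by
    intro x hx
    refine hfix ⟨Projectivization.mk F ![x - M 1 1, M 1 0] ?_, ?_⟩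
    · intro e
      exact h10 (congrFun e 1)
    · rw [← hY, fix_iff]
      refine ⟨x, funext fun i => ?_⟩
      rw [mulVec_two]
      fin_cases i
      · simp only [Fin.zero_eta, Pi.smul_apply, smul_eq_mul, Matrix.cons_val_zero, Matrix.cons_val_one]
        show M 0 0 * _ + M 0 1 * M 1 0 = _
        simp only [t] at hx
        linear_combination -hx - hdet'
      · simp only [Fin.mk_one, Pi.smul_apply, smul_eq_mul, Matrix.cons_val_zero, Matrix.cons_val_one]
        show M 1 0 * _ + M 1 1 * M 1 0 = _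
        ring
  have ht0 : t ≠ 0 := fun e => hroot 2 (by rw [e]; linear_combination h50)
  have ht1 : t * t = 1 := by
    have h4 : t ^ 4 = 1 := by
      have := FiniteField.pow_card_sub_one_eq_one t ht0
      rwa [h5] at this
    have : (t * t - 1) * (t * t + 1) = 0 := by linear_combination h4
    rcases mul_eq_zero.1 this with h | h
    · exact sub_eq_zero.1 h
    · exfalso
      have : (t - 2) * (t + 2) = 0 := by linear_combination h - h50
      rcases mul_eq_zero.1 this with h' | h'
      · exact hroot 1 (by rw [sub_eq_zero.1 h']; ring)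
      · exact hroot (-1) (by rw [eq_neg_of_add_eq_zero_left h']; ring)
  -- hence `y` has order three
  have hy3 : y ^ 3 = 1 := by
    refine Subtype.ext ?_
    rw [SubmonoidClass.coe_pow, ← hY, ← map_pow, OneMemClass.coe_one, ProjGenLinGroup.mk_eq_one,
      GeneralLinearGroup.center_eq_range_scalar]
    refine ⟨Units.mk0 (-t) (neg_ne_zero.2 ht0), Units.ext ?_⟩
    rw [Units.val_pow_eq_pow_val, GeneralLinearGroup.coe_scalar]
    show scalar (Fin 2) (-t) = M ^ 3
    simp only [t] at ht1 ⊢
    ext i j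
    fin_cases i <;> fin_cases j <;> simp [pow_succ, Matrix.mul_apply, Fin.sum_univ_two, scalar_apply]
    · linear_combination -(M 0 0) * ht1 + (M 0 0 * 2 + M 1 1) * hdet'
    · linear_combination -(M 0 1) * ht1 + M 0 1 * hdet'
    · linear_combination -(M 1 0) * ht1 + M 1 0 * hdet'
    · linear_combination -(M 1 1) * ht1 + (M 1 1 * 2 + M 0 0) * hdet'
  set D : G := ⟨_, haG⟩
  have hD2 : D ^ 2 = 1 := by
    refine Subtype.ext ?_
    rw [SubmonoidClass.coe_pow, OneMemClass.coe_one, ← map_pow, ProjGenLinGroup.mk_eq_one,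
      GeneralLinearGroup.center_eq_range_scalar]
    refine ⟨1, Units.ext ?_⟩
    rw [Units.val_pow_eq_pow_val, map_one, Units.val_one]
    show (1 : Matrix (Fin 2) (Fin 2) F) = !![(a : F), 0; 0, 1] ^ 2
    simp [pow_succ, ha, Matrix.one_fin_two]
  have hc := CfsgLib.NilpPerm.commute_of_coprime_order (G := A) (a := ⟨y, hy⟩) (b := ⟨D, hA⟩) (by
    rw [← Subgroup.orderOf_coe (⟨y, hy⟩ : A), ← Subgroup.orderOf_coe (⟨D, hA⟩ : A)]
    exact (((by norm_num : Nat.Coprime 3 2)).coprime_dvd_left (orderOf_dvd_of_pow_eq_one hy3)).coprime_dvd_right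
      (orderOf_dvd_of_pow_eq_one hD2))
  have hc' : Commute (ProjGenLinGroup.mk Y : PGL(2, F)) (ProjGenLinGroup.mk (diagGL a)) := by
    rw [hY]
    exact congrArg (fun z : A => ((z : G) : PGL(2, F))) hc.eq
  rcases commute_diag a ha1 Y hc' with ⟨-, e⟩ | ⟨e0, e1, -⟩
  · exact h10 e
  · exact ht0 (by simp only [t]; linear_combination e0 + e1)

theorem noNilCover_five {G : Subgroup PGL(2, F)} (h5 : Fintype.card F = 5)
    (hG : ∀ s : SpecialLinearGroup (Fin 2) F, ProjGenLinGroup.mk (SpecialLinearGroup.toGL s) ∈ G)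
    (hno : ∀ a : Fˣ, (a : F) * a ≠ 1 → ProjGenLinGroup.mk (diagGL a) ∉ G) : NoNilCover G := by
  classical
  obtain ⟨p, hp, hchar⟩ := exists_char F
  haveI := Fact.mk hp
  haveI : Fintype (ℙ F (Fin 2 → F)) := Fintype.ofFinite _
  have h50 := five_eq_zero h5
  have h2 : (2 : F) ≠ 0 := fun e => by
    have : (1 : F) = 0 := by linear_combination h50 - 2 * e
    exact one_ne_zero this
  have ha1 : ((-1 : Fˣ) : F) ≠ 1 := by
    rw [Units.val_neg, Units.val_one]
    intro e
    exact h2 (by linear_combination -e)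
  have ha2 : ((-1 : Fˣ) : F) * ((-1 : Fˣ) : F) = 1 := by simp
  have haG : ProjGenLinGroup.mk (diagGL (-1 : Fˣ)) ∈ G := by
    have hdet : (!![(2 : F), 0; 0, 3]).det = 1 := by
      rw [det_fin_two]; simp; linear_combination h50
    have := hG ⟨_, hdet⟩
    convert this using 1
    rw [ProjGenLinGroup.mk_eq_mk_iff]
    have h3 : (3 : F) ≠ 0 := fun e => h2 (by linear_combination h50 - e)
    refine ⟨Units.mk0 3 h3, Units.ext ?_⟩
    rw [Units.val_mul, GeneralLinearGroup.coe_scalar]
    show !![((-1 : Fˣ) : F), 0; 0, 1] * scalar (Fin 2) (3 : F) = !![(2 : F), 0; 0, 3]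
    ext i j
    fin_cases i <;> fin_cases j <;> simp [Matrix.mul_apply, scalar_apply]
    linear_combination -h50
  set D : G := ⟨_, haG⟩
  let e : Option (ℙ F (Fin 2 → F)) → G := fun o => o.elim D fun x => unip hG (trans hG le_rfl x)
  refine false_of_replacement (fun g : G => ∃ x : ℙ F (Fin 2 → F), (g : PGL(2, F)) • x = x)
    (fun x => (MulAction.stabilizer PGL(2, F) x).subgroupOf G) (stab_ne_top hG le_rfl)
    (fun g ⟨x, hx⟩ => ⟨x, hx⟩) e ?_ ?_ ?_
  · rw [Nat.card_eq_fintype_card, Nat.card_eq_fintype_card, Fintype.card_option]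
    omega
  · intro A hA o ho b hb
    cases o with
    | none => exact exists_fix_five h5 hG hno _ ha2 ha1 haG A ho hb
    | some x => exact ⟨_, fix_of_unip hG _ ho b hb⟩
  · intro A hA i j hi hj
    have hnone : ∀ x, e none ∈ A → e (some x) ∈ A → False := by
      intro x hn hx
      obtain ⟨k, hk⟩ := isPGroup_of_unip (p := p) hG _ hx ⟨D, hn⟩
      have h1 : (D : PGL(2, F)) ^ p ^ k = 1 := congrArg (fun z : A => ((z : G) : PGL(2, F))) hk
      rw [← map_pow, ProjGenLinGroup.mk_eq_one, GeneralLinearGroup.center_eq_range_scalar] at h1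
      obtain ⟨u, hu⟩ := h1
      have hp5 : p ∣ 5 := by
        have := (CharP.cast_eq_zero_iff F p 5).1 (by exact_mod_cast h50)
        exact this
      have hodd : Odd (p ^ k) := by
        refine Odd.pow ?_
        rw [(Nat.prime_dvd_prime_iff_eq hp Nat.prime_five).1 hp5]
        decide
      have hd : ((diagGL (-1 : Fˣ) : GL (Fin 2) F) : Matrix (Fin 2) (Fin 2) F) ^ p ^ k =
          ((diagGL (-1 : Fˣ) : GL (Fin 2) F) : Matrix (Fin 2) (Fin 2) F) := by
        obtain ⟨r, hr⟩ := hodd
        have hsq : (diagGL (-1 : Fˣ) : GL (Fin 2) F) ^ 2 = 1 := Units.ext (by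
          rw [Units.val_pow_eq_pow_val, Units.val_one]
          show !![((-1 : Fˣ) : F), 0; 0, 1] ^ 2 = 1
          simp [pow_succ, Matrix.one_fin_two])
        rw [← Units.val_pow_eq_pow_val, hr, pow_succ, pow_mul, hsq, one_pow, one_mul]
      have hu' : scalar (Fin 2) (u : F) = !![((-1 : Fˣ) : F), 0; 0, 1] := by
        have := congrArg Units.val hu
        rw [Units.val_pow_eq_pow_val, hd] at this
        exact this
      have e0 := congrFun (congrFun hu' 0) 0
      have e1 := congrFun (congrFun hu' 1) 1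
      simp [scalar_apply] at e0 e1
      rw [e1] at e0
      have e2 := congrArg Units.val e0
      rw [Units.val_neg, Units.val_one] at e2
      exact h2 (by linear_combination e2)
    cases i with
    | none =>
      cases j with
      | none => rfl
      | some y => exact (hnone y hi hj).elim
    | some x =>
      cases j with
      | none => exact (hnone x hj hi).elim
      | some y =>
        have h1 := fix_of_unip hG _ hi (e (some y)) hj
        rw [trans_spec] at h1
        have h3 := (unip_fix_iff hG _ x).1 h1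
        rw [trans_spec] at h3
        rw [h3]

end CfsgLib.NilCover
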